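import Groth.Agent.StkSmall.Model
import Groth.Agent.StkBasic.Transport
import Groth.Agent.AlgStLib.Calc
import Groth.Agent.AlgStLib.Cancel
import Groth.Prelude.Def_AlgSt3

/-!
# Transport of notions for stacks along equivalences between different universes
-/

set_option autoImplicit false
set_option backward.isDefEq.respectTransparency false
set_option backward.isDefEq.respectTransparency.types false
set_option linter.style.haveILetI false
universe v₃ u₃ v₂ u₂ u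

noncomputable section

namespace Groth.Agent.StkSmall

open CategoryTheory CategoryTheory.Limits AlgebraicGeometry Opposite FibCat Groth.Agent.FibCatRep
  Groth.Agent.FibCat2Misc Groth.Agent.StkBasic Groth.Agent.AlgSpLib Groth.Agent.AlgStLib
open _root_.AlgSp _root_.AlgSt

variable {S : Scheme.{u}} {𝒳 : BasedCategory.{v₂, u₂} (Over S)} {𝒴 : BasedCategory.{v₃, u₃} (Over S)}

theorem comp_toSelf₂ (g : 𝒳 ⥤ᵇ 𝒴) : BasedFunctor.comp g (FibCat.toSelf 𝒴) = FibCat.toSelf 𝒳 :=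
  (fun F G (h : F.toFunctor = G.toFunctor) => by
    obtain ⟨F, _⟩ := F
    obtain ⟨G, _⟩ := G
    cases h
    rfl : ∀ F G : 𝒳 ⥤ᵇ FibCat.selfOver (Over S), F.toFunctor = G.toFunctor → F = G) _ _ g.w

variable {e : 𝒳 ⥤ᵇ 𝒴} (he : FibCat.IsEquivOver e)
include he

theorem hasAtlas_iff {P : MorphismProperty (Sp S)} : HasAtlas P 𝒳 ↔ HasAtlas P 𝒴 := by
  obtain ⟨k, hk, -, -⟩ := isEquivOver_symm he
  constructor <;> rintro ⟨U, x, h₁, h₂⟩
  · exact ⟨U, BasedFunctor.comp x e,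
      (repWith_iff_of_equiv _ (BasedFunctor.comp x e) x (BasedFunctor.id _) e isEquivOver_id he (Iso.refl _)).2 h₁,
      (repWith_iff_of_equiv _ (BasedFunctor.comp x e) x (BasedFunctor.id _) e isEquivOver_id he (Iso.refl _)).2 h₂⟩
  · exact ⟨U, BasedFunctor.comp x k,
      (repWith_iff_of_equiv _ (BasedFunctor.comp x k) x (BasedFunctor.id _) k isEquivOver_id hk (Iso.refl _)).2 h₁,
      (repWith_iff_of_equiv _ (BasedFunctor.comp x k) x (BasedFunctor.id _) k isEquivOver_id hk (Iso.refl _)).2 h₂⟩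

theorem repWith_diag_toSelf_iff {Q : MorphismProperty (Sp S)} :
    RepByAlgSpWith Q (FibCat.diag (FibCat.toSelf 𝒴)) ↔ RepByAlgSpWith Q (FibCat.diag (FibCat.toSelf 𝒳)) := by
  haveI : (BasedFunctor.id (FibCat.selfOver (Over S))).toFunctor.Full := inferInstanceAs (𝟭 _).Full
  haveI : (BasedFunctor.id (FibCat.selfOver (Over S))).toFunctor.Faithful := inferInstanceAs (𝟭 _).Faithful
  let f := FibCat.toSelf 𝒴
  let f' := FibCat.toSelf 𝒳
  let j : BasedFunctor.comp f' (BasedFunctor.id _) ≅ BasedFunctor.comp e f := eqToIso (comp_toSelf₂ e).symm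
  let B := fpMap (F := f) (G := f) f' f' e e (BasedFunctor.id _) j j
  refine repWith_iff_of_equiv Q (FibCat.diag f) (FibCat.diag f') e B he
    (isEquivOver_fpMap _ _ _ _ _ _ _ he he) (fpExt (Iso.refl _) (Iso.refl _) fun x => ?_)
  show f.map (𝟙 (e.obj x)) ≫ 𝟙 (f.obj (e.obj x)) =
    (j.inv.toNatTrans.app x ≫ (BasedFunctor.id _).map (𝟙 (f'.obj x)) ≫ j.hom.toNatTrans.app x) ≫ f.map (𝟙 (e.obj x))
  have h : j.inv.toNatTrans.app x ≫ j.hom.toNatTrans.app x = 𝟙 _ :=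
    congrArg (fun t => t.toNatTrans.app x) j.inv_hom_id
  simp only [CategoryTheory.Functor.map_id]
  erw [Category.comp_id, Category.comp_id, Category.id_comp]
  exact h.symm

theorem isAlgStack_iff : IsAlgStack Scheme.fppfPrecoverage 𝒳 ↔ IsAlgStack Scheme.fppfPrecoverage 𝒴 := by
  obtain ⟨k, hk, -, -⟩ := isEquivOver_symm he
  constructor <;> intro h
  · exact ⟨isStack_of_equiv he _ h.isStack, repByAlgSp1_of_with ((repWith_diag_toSelf_iff he).2
      (repByAlgSpWith_top_iff.2 h.diag)), (hasAtlas_iff he).1 h.atlas⟩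
  · exact ⟨isStack_of_equiv hk _ h.isStack, repByAlgSp1_of_with ((repWith_diag_toSelf_iff he).1
      (repByAlgSpWith_top_iff.2 h.diag)), (hasAtlas_iff he).2 h.atlas⟩

theorem isDM_iff : AlgSt.IsDM Scheme.fppfPrecoverage 𝒳 ↔ AlgSt.IsDM Scheme.fppfPrecoverage 𝒴 :=
  and_congr (isAlgStack_iff he) (hasAtlas_iff he)

theorem isDMOver_iff : AlgSt.IsDMOver 𝒳 ↔ AlgSt.IsDMOver 𝒴 :=
  (repWith_diag_toSelf_iff he).symm

omit he

/-- restriction of a functor to full subcategories -/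
def subFun (e : 𝒳 ⥤ᵇ 𝒴) (Q : 𝒴.obj → Prop) : AlgSt.fullSub 𝒳 (fun a => Q (e.obj a)) ⥤ᵇ AlgSt.fullSub 𝒴 Q where
  toFunctor := ObjectProperty.lift Q (ObjectProperty.ι (fun a => Q (e.obj a)) ⋙ e.toFunctor) fun a => a.property
  w := by
    show (ObjectProperty.ι (fun a => Q (e.obj a)) ⋙ e.toFunctor) ⋙ 𝒴.p = _
    rw [Functor.assoc, e.w]

include he

theorem isEquivOver_subFun {Q : 𝒴.obj → Prop} (hQ : ObjectProperty.IsClosedUnderIsomorphisms Q) :
    FibCat.IsEquivOver (subFun e Q) := by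
  obtain ⟨hee, hd⟩ := isEquivOver_data he
  haveI : (subFun e Q).toFunctor.Faithful := ⟨fun {a b} m m' h =>
    ObjectProperty.hom_ext _ (e.toFunctor.map_injective (congrArg (fun t => t.hom) h :))⟩
  haveI : (subFun e Q).toFunctor.Full := ⟨fun {a b} n =>
    ⟨ObjectProperty.homMk (e.toFunctor.preimage n.hom), ObjectProperty.hom_ext _ (e.toFunctor.map_preimage _)⟩⟩
  refine isEquivOver_of_fullyFaithful _ fun η => ?_
  obtain ⟨a, i, hi, hi'⟩ := hd η.obj
  exact ⟨⟨a, hQ.of_iso i.symm η.property⟩, ObjectProperty.isoMk _ i, hi, hi'⟩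

theorem isOpenSubstack_iff {Q : 𝒴.obj → Prop} (hQ : ObjectProperty.IsClosedUnderIsomorphisms Q) :
    AlgSt.IsOpenSubstack 𝒳 (fun a => Q (e.obj a)) Scheme.fppfPrecoverage ↔
      AlgSt.IsOpenSubstack 𝒴 Q Scheme.fppfPrecoverage := by
  have hi : AlgSt.IsOpenImm (AlgSt.subIncl 𝒳 (fun a => Q (e.obj a))) ↔ AlgSt.IsOpenImm (AlgSt.subIncl 𝒴 Q) :=
    (repWith_iff_of_equiv _ (AlgSt.subIncl 𝒴 Q) (AlgSt.subIncl 𝒳 (fun a => Q (e.obj a))) (subFun e Q) e
      (isEquivOver_subFun he hQ) he (Iso.refl _)).symm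
  exact ⟨fun h => ⟨hQ, (isAlgStack_iff (isEquivOver_subFun he hQ)).1 h.2.1, hi.1 h.2.2⟩,
    fun h => ⟨⟨fun i h' => hQ.of_iso (e.toFunctor.mapIso i) h'⟩, (isAlgStack_iff (isEquivOver_subFun he hQ)).2 h.2.1, hi.2 h.2.2⟩⟩

omit he

/-- functoriality of the inertia -/
def inertiaMap (e : 𝒳 ⥤ᵇ 𝒴) : FibCat.inertia (FibCat.toSelf 𝒳) ⥤ᵇ FibCat.inertia (FibCat.toSelf 𝒴) where
  toFunctor :=
    { obj := fun o => ⟨e.obj o.pt, e.toFunctor.mapIso o.aut, by
        show 𝒴.p.map (e.map o.aut.hom) = 𝟙 _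
        rw [map_map e, show 𝒳.p.map o.aut.hom = 𝟙 _ from o.map_aut]
        simp⟩
      map := fun {a b} m => ⟨e.map m.hom, by
        show e.map a.aut.hom ≫ e.map m.hom = e.map m.hom ≫ e.map b.aut.hom
        rw [← Functor.map_comp, m.comm, Functor.map_comp]⟩
      map_id := fun a => FibCat.InertiaObj.hom_ext (e.toFunctor.map_id _)
      map_comp := fun m n => FibCat.InertiaObj.hom_ext (e.toFunctor.map_comp _ _) }
  w := by
    show (FibCat.InertiaObj.forget ⋙ e.toFunctor) ⋙ 𝒴.p = _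
    rw [Functor.assoc, e.w]

include he

theorem isEquivOver_inertiaMap : FibCat.IsEquivOver (inertiaMap e) := by
  obtain ⟨hee, hd⟩ := isEquivOver_data he
  haveI : (inertiaMap e).toFunctor.Faithful := ⟨fun {a b} m m' h =>
    FibCat.InertiaObj.hom_ext (e.toFunctor.map_injective (congrArg (fun t => t.hom) h :))⟩
  haveI : (inertiaMap e).toFunctor.Full := ⟨fun {a b} n => by
    refine ⟨⟨e.toFunctor.preimage n.hom, e.toFunctor.map_injective ?_⟩,
      FibCat.InertiaObj.hom_ext (e.toFunctor.map_preimage _)⟩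
    rw [Functor.map_comp, Functor.map_comp, Functor.map_preimage]
    exact n.comm⟩
  refine isEquivOver_of_fullyFaithful _ fun η => ?_
  obtain ⟨a, i, hi, hi'⟩ := hd η.pt
  have hinv : 𝒴.p.map i.inv = eqToHom hi.symm := by
    rw [← IsIso.Iso.inv_hom i]
    exact map_inv_of_eqToHom _ hi'
  let β : a ≅ a := e.toFunctor.preimageIso (i ≪≫ η.aut ≪≫ i.symm)
  have hb : e.map β.hom = i.hom ≫ η.aut.hom ≫ i.inv := e.toFunctor.map_preimage _
  have hβ : (FibCat.toSelf 𝒳).map β.hom = 𝟙 _ := by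
    show 𝒳.p.map β.hom = 𝟙 (𝒳.p.obj a)
    have h1 := map_map e β.hom
    rw [hb, Functor.map_comp, Functor.map_comp, hi', hinv, show 𝒴.p.map η.aut.hom = 𝟙 (𝒴.p.obj η.pt) from η.map_aut] at h1
    rw [← cancel_epi (eqToHom (e.w_obj a)), ← cancel_mono (eqToHom (e.w_obj a).symm)]
    simpa using h1.symm
  let o : (FibCat.inertia (FibCat.toSelf 𝒳)).obj := ⟨a, β, hβ⟩
  let j : (inertiaMap e).obj o ≅ η :=
    { hom := ⟨i.hom, by show e.map β.hom ≫ i.hom = i.hom ≫ η.aut.hom; rw [hb]; simp⟩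
      inv := ⟨i.inv, by show η.aut.hom ≫ i.inv = i.inv ≫ e.map β.hom; rw [hb]; simp⟩
      hom_inv_id := FibCat.InertiaObj.hom_ext i.hom_inv_id
      inv_hom_id := FibCat.InertiaObj.hom_ext i.inv_hom_id }
  exact ⟨o, j, hi, hi'⟩

/-- the pullback of the inertia to a chart does not change along equivalences -/
theorem repWith_fpFst_inertia_iff {Q : MorphismProperty (Sp S)} {U : Over S} {x' : FibCat.overCat U ⥤ᵇ 𝒳}
    {x : FibCat.overCat U ⥤ᵇ 𝒴} (i : BasedFunctor.comp x' e ≅ x) :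
    RepByAlgSpWith Q (FibCat.fpFst x (FibCat.inertiaToBase (FibCat.toSelf 𝒴))) ↔
      RepByAlgSpWith Q (FibCat.fpFst x' (FibCat.inertiaToBase (FibCat.toSelf 𝒳))) := by
  haveI := (isEquivOver_data he).1
  let M := fpMap (F := x) (G := FibCat.inertiaToBase (FibCat.toSelf 𝒴)) x' (FibCat.inertiaToBase (FibCat.toSelf 𝒳))
    (BasedFunctor.id _) (inertiaMap e) e i (Iso.refl _)
  exact repWith_iff_of_equiv Q _ _ M (BasedFunctor.id _)
    (isEquivOver_fpMap _ _ _ _ _ _ _ isEquivOver_id (isEquivOver_inertiaMap he)) isEquivOver_id (Iso.refl _)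

end Groth.Agent.StkSmall

end
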