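import Groth.Agent.AlgStLib.OpenSub
import Groth.Agent.StkSmall.Transfer

/-!
# Open substacks from pointwise loci

A predicate on the objects of an algebraic stack (in any universes) which on every object `a` is
read off from an open subset of the base of `a` cuts out an open substack.
-/

set_option autoImplicit false
set_option backward.isDefEq.respectTransparency false
set_option backward.isDefEq.respectTransparency.types false
set_option linter.style.haveILetI false
universe v₂ u₂ u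

noncomputable section

namespace Groth.Agent.StkSmall

open CategoryTheory CategoryTheory.Limits AlgebraicGeometry FibCat Groth.Agent.FibCatRep
  Groth.Agent.FibCat2Misc Groth.Agent.StkBasic Groth.Agent.AlgSpLib Groth.Agent.AlgStLib
open _root_.AlgSp _root_.AlgSt

variable {S : Scheme.{u}}

/-- the criterion, in small universes -/
theorem isOpenSubstack_of_locus_small {𝒳 : AlgSt.Cat S} (h𝒳 : IsAlgStack Scheme.fppfPrecoverage 𝒳)
    (Q : 𝒳.obj → Prop)
    (H : ∀ a, ∃ V : (𝒳.p.obj a).left.Opens, ∀ {b} (m : b ⟶ a), Q b ↔ Set.range (𝒳.p.map m).left ⊆ V) :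
    AlgSt.IsOpenSubstack 𝒳 Q Scheme.fppfPrecoverage := by
  choose V hV using H
  have huniv : ∀ a, Q a → ∀ z, z ∈ V a := fun a h z => by
    have := (hV a (𝟙 a)).1 h ⟨z, rfl⟩
    simpa using this
  have hdown : ∀ {a b} (m : b ⟶ a), Q a → Q b := fun {a b} m h => (hV a m).2 fun z _ => huniv a h z
  have hpt : ∀ (p : AlgSt.FPt 𝒳) {b} (m : b ⟶ p.obj), Nonempty ↥(𝒳.p.obj b).left → Q b → Q p.obj := by
    intro p b m ⟨k⟩ h
    refine (hV p.obj (𝟙 _)).2 fun z _ => ?_
    haveI := subsingleton_pt p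
    rw [Subsingleton.elim z ((𝒳.p.map m).left k)]
    exact (hV p.obj m).1 h ⟨k, rfl⟩
  let O : Set (AlgSt.Points 𝒳) := {x | ∃ p : AlgSt.FPt 𝒳, AlgSt.Points.mk p = x ∧ Q p.obj}
  have hmem : ∀ p : AlgSt.FPt 𝒳, AlgSt.Points.mk p ∈ O ↔ Q p.obj := by
    refine fun p => ⟨fun ⟨q, hq, h⟩ => ?_, fun h => ⟨p, rfl, h⟩⟩
    obtain ⟨r, m, n, -⟩ := (mk_eq_iff h𝒳.isStack.1).1 hq
    exact hpt p n (nonempty_pt r) (hdown m h)
  have hO : IsOpen O := by
    intro U x _
    let a := x.obj (Over.mk (𝟙 U))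
    let e : U ⟶ 𝒳.p.obj a := eqToHom (x.w_obj (Over.mk (𝟙 U))).symm
    have heq : AlgSt.Points.ofChart x ⁻¹' O = e.left ⁻¹' (V a) := by
      ext t
      let A : Over U := Over.mk (Over.homMk (U.left.fromSpecResidueField t) rfl :
        Over.mk (U.left.fromSpecResidueField t ≫ U.hom) ⟶ U)
      let m : x.obj A ⟶ a := x.map (Over.homMk A.hom (Category.comp_id _) : A ⟶ Over.mk (𝟙 U))
      refine (hmem _).trans ((hV a m).trans ?_)
      have hm : (𝒳.p.map m) = eqToHom (x.w_obj A) ≫ A.hom ≫ e := map_map x _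
      haveI : Nonempty ↥(𝒳.p.obj (x.obj A)).left :=
        ⟨(eqToHom (x.w_obj A).symm).left (IsLocalRing.closedPoint _)⟩
      have hz : ∀ z, (𝒳.p.map m).left z = e.left t := fun z => by
        rw [hm]
        show e.left (U.left.fromSpecResidueField t _) = _
        rw [Scheme.fromSpecResidueField_apply]
      constructor
      · intro h
        show e.left t ∈ V a
        rw [← hz (Classical.arbitrary _)]
        exact h ⟨_, rfl⟩
      · rintro h _ ⟨z, rfl⟩
        rw [hz]; exact h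
    rw [heq]
    exact (V a).2.preimage e.left.continuous
  have hQ : Q = InSet O := funext fun a => propext ⟨fun h p ⟨m⟩ => (hmem p).2 (hdown m h), fun h => by
    refine (hV a (𝟙 a)).2 fun z _ => ?_
    let T := (𝒳.p.obj a).left
    obtain ⟨b, φ, hb, hφ⟩ := exists_lift h𝒳.isStack.1 (x := a) (V := Over.mk (T.fromSpecResidueField z ≫ (𝒳.p.obj a).hom))
      (Over.homMk (T.fromSpecResidueField z) rfl)
    have hq := (hmem ⟨T.residueField z, _, b, hb⟩).1 (h _ ⟨φ⟩)
    have hz := (hV a φ).1 hq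
    refine hz ⟨(eqToHom hb.symm).left (IsLocalRing.closedPoint _), ?_⟩
    rw [hφ, ← Scheme.Hom.comp_apply, ← Over.comp_left, eqToHom_trans_assoc, eqToHom_refl, Category.id_comp]
    exact Scheme.fromSpecResidueField_apply _ _⟩
  rw [hQ]
  exact isOpenSubstack_inSet h𝒳 hO

variable {𝒳 : BasedCategory.{v₂, u₂} (Over S)}

/-- A predicate whose value on every object over an object `a` is "the base maps into a fixed open
subset of the base of `a`" cuts out an open substack. -/
theorem isOpenSubstack_of_locus (h𝒳 : IsAlgStack Scheme.fppfPrecoverage 𝒳) (Q : 𝒳.obj → Prop)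
    (H : ∀ a, ∃ V : (𝒳.p.obj a).left.Opens, ∀ {b} (m : b ⟶ a), Q b ↔ Set.range (𝒳.p.map m).left ⊆ V) :
    AlgSt.IsOpenSubstack 𝒳 Q Scheme.fppfPrecoverage := by
  obtain ⟨𝒳', E, hE⟩ := exists_small_model h𝒳
  have hQ : ObjectProperty.IsClosedUnderIsomorphisms Q := ⟨fun {a b} i h => by
    obtain ⟨V, hV⟩ := H a
    refine (hV i.inv).2 fun z _ => ?_
    have := (hV (𝟙 a)).1 h ⟨z, rfl⟩
    simpa using this⟩
  refine (isOpenSubstack_iff hE hQ).1 (isOpenSubstack_of_locus_small ((isAlgStack_iff hE).2 h𝒳) _ fun a => ?_)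
  obtain ⟨V, hV⟩ := H (E.obj a)
  let e : 𝒳'.p.obj a ⟶ 𝒳.p.obj (E.obj a) := eqToHom (E.w_obj a).symm
  refine ⟨e.left ⁻¹ᵁ V, fun {b} m => (hV (E.map m)).trans ?_⟩
  let e' : 𝒳'.p.obj b ⟶ 𝒳.p.obj (E.obj b) := eqToHom (E.w_obj b).symm
  have key : e' ≫ 𝒳.p.map (E.map m) = 𝒳'.p.map m ≫ e := by rw [map_map E m]; simp [e, e']
  have key' : ∀ z, (𝒳.p.map (E.map m)).left (e'.left z) = e.left ((𝒳'.p.map m).left z) := fun z =>
    congrArg (fun (f : 𝒳'.p.obj b ⟶ 𝒳.p.obj (E.obj a)) => f.left z) key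
  constructor
  · rintro h _ ⟨z, rfl⟩
    show e.left _ ∈ V
    rw [← key']
    exact h ⟨_, rfl⟩
  · rintro h _ ⟨w, rfl⟩
    have : e'.left ((eqToHom (E.w_obj b)).left w) = w := by
      rw [← Scheme.Hom.comp_apply, ← Over.comp_left, eqToHom_trans, eqToHom_refl]; rfl
    rw [← this, key']
    exact h ⟨_, rfl⟩

end Groth.Agent.StkSmall

end
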