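import Groth.Agent.AlgSpLib.Sigma
import Groth.Agent.AlgSpLib.Criteria
import Groth.Agent.AlgSpLib.EtST
import Mathlib.AlgebraicGeometry.Morphisms.FiniteType
import Mathlib.CategoryTheory.EssentiallySmall

/-!
# Small families of fppf covers, and smallness of the sections of algebraic spaces
-/

set_option autoImplicit false
set_option backward.isDefEq.respectTransparency false
set_option backward.isDefEq.respectTransparency.types false
set_option linter.style.haveILetI false
universe u

noncomputable section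

namespace Groth.Agent.StkSmall

open CategoryTheory CategoryTheory.Limits AlgebraicGeometry Opposite Groth.Agent.AlgSpLib
open _root_.AlgSp

variable {S : Scheme.{u}}

/-- a small set of pieces refining all flat, locally finitely presented maps to a given scheme -/
theorem exists_small_cover (T : Over S) :
    ∃ (D : Type u) (W : D → Over S) (w : ∀ d, W d ⟶ T),
      (∀ d, Flat (w d).left ∧ LocallyOfFinitePresentation (w d).left) ∧
      ∀ (V : Over S) (h : V ⟶ T), Flat h.left → LocallyOfFinitePresentation h.left → ∀ v : V.left,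
        ∃ (d : D) (j : W d ⟶ V), j ≫ h = w d ∧ v ∈ Set.range j.left := by
  let P : MorphismProperty Scheme.{u} := @Flat ⊓ @LocallyOfFinitePresentation
  haveI : P.RespectsIso :=
    MorphismProperty.RespectsIso.mk _
      (fun e g hg => by haveI := hg.1; haveI := hg.2; exact ⟨inferInstance, inferInstance⟩)
      (fun e g hg => by haveI := hg.1; haveI := hg.2; exact ⟨inferInstance, inferInstance⟩)
  let C := P.CostructuredArrow ⊤ Scheme.Spec T.left
  haveI : EssentiallySmall.{u} C := essentiallySmall_costructuredArrow_Spec _ fun _ _ f hf => by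
    haveI := hf.2
    infer_instance
  let E := equivSmallModel.{u} C
  let c : SmallModel.{u} C → C := fun d => E.inverse.obj d
  refine ⟨SmallModel.{u} C, fun d => Over.mk ((c d).hom ≫ T.hom), fun d => Over.homMk (c d).hom rfl,
    fun d => ⟨(c d).prop.1, (c d).prop.2⟩, fun V h h₁ h₂ v => ?_⟩
  haveI := h₁
  haveI := h₂
  obtain ⟨A, hA, hvA, -⟩ := exists_isAffineOpen_mem_and_subset (show v ∈ (⊤ : V.left.Opens) from trivial)
  haveI : IsAffine (A : Scheme.{u}) := hA
  let g : Spec (Γ((A : Scheme.{u}), ⊤)) ⟶ T.left := (A : Scheme.{u}).isoSpec.inv ≫ A.ι ≫ h.left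
  let o : C := MorphismProperty.CostructuredArrow.mk _ (A := op Γ((A : Scheme.{u}), ⊤)) g ⟨inferInstance, inferInstance⟩
  let i : c (E.functor.obj o) ≅ o := (E.unitIso.app o).symm
  let j : (Scheme.Spec.obj (c (E.functor.obj o)).left) ⟶ V.left :=
    Scheme.Spec.map i.hom.left ≫ (A : Scheme.{u}).isoSpec.inv ≫ A.ι
  have hj : j ≫ h.left = (c (E.functor.obj o)).hom := by
    simp only [j, Category.assoc]
    exact (CostructuredArrow.w i.hom.toCommaMorphism :)
  refine ⟨E.functor.obj o, Over.homMk j (by
    show j ≫ V.hom = (c (E.functor.obj o)).hom ≫ T.hom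
    exact (congrArg (j ≫ ·) (Over.w h).symm).trans ((Category.assoc _ _ _).symm.trans (congrArg (· ≫ T.hom) hj))), Over.OverMorphism.ext hj, ?_⟩
  obtain ⟨x, hx⟩ := ((Scheme.Spec.map i.hom.left ≫ (A : Scheme.{u}).isoSpec.inv)).surjective ⟨v, hvA⟩
  refine ⟨x, ?_⟩
  show j x = v
  rw [show j = (Scheme.Spec.map i.hom.left ≫ (A : Scheme.{u}).isoSpec.inv) ≫ A.ι from (Category.assoc _ _ _).symm,
    Scheme.Hom.comp_apply, hx]
  rfl

/-- pieces covering a scheme generate a covering sieve -/
theorem generate_mem {T : Over S} {ι : Type u} {W : ι → Over S} (w : ∀ d, W d ⟶ T)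
    (h : ∀ d, Flat (w d).left ∧ LocallyOfFinitePresentation (w d).left)
    (hc : ∀ t : T.left, ∃ d, t ∈ Set.range (w d).left) :
    Sieve.generate (Presieve.ofArrows W w) ∈ J S T := by
  refine generate_ofArrows_mem_J w ?_
  rw [Scheme.fppfPrecoverage, Scheme.ofArrows_mem_precoverage_iff]
  exact ⟨hc, h⟩

/-- algebraic spaces have small sets of sections -/
theorem small_hom {F : Sp S} (hF : IsAlgSpace F) (T : Over S) : Small.{u} ((yon S).obj T ⟶ F) := by
  classical
  obtain ⟨D, W, w, hw, hD⟩ := exists_small_cover T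
  obtain ⟨U, p, hp, hps⟩ := hF.atlas
  refine small_of_injective (f := fun ξ => {x : Σ d : D, (W d ⟶ U) |
    (yon S).map (w x.1) ≫ ξ = (yon S).map x.2 ≫ p}) fun ξ ξ' e => ?_
  obtain ⟨R, k, pr, sq⟩ := exists_pullback hF.diag p ξ
  haveI : Etale pr.left := (repWith_yon_iff pr).1 (repWith_baseChange sq hp)
  haveI : Surjective pr.left := (repWith_yon_iff pr).1 (repWith_baseChange sq hps)
  let good := {d : D // ∃ a : W d ⟶ U, (yon S).map (w d) ≫ ξ = (yon S).map a ≫ p}
  have hc : ∀ t : T.left, ∃ d : good, t ∈ Set.range (w d.1).left := fun t => by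
    obtain ⟨r, rfl⟩ := pr.left.surjective t
    obtain ⟨d, j, hj, z, hz⟩ := hD R pr inferInstance inferInstance r
    refine ⟨⟨d, j ≫ k, ?_⟩, z, ?_⟩
    · rw [← hj, Functor.map_comp, Functor.map_comp, Category.assoc, Category.assoc, sq.w]
    · show (w d).left z = _
      rw [← hj, Over.comp_left, Scheme.Hom.comp_apply, hz]
  refine hom_ext_cover (R := Presieve.ofArrows (fun d : good => (W d.1).left) (fun d => (w d.1).left)) ?_
    fun Z g hg => ?_
  · refine (Scheme.ofArrows_mem_precoverage_iff (P := @Flat ⊓ @LocallyOfFinitePresentation)).2 ?_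
    exact ⟨hc, fun d => hw d.1⟩
  · obtain ⟨⟨d, a, ha⟩⟩ := hg
    have ha' : (yon S).map (w d) ≫ ξ' = (yon S).map a ≫ p :=
      (Set.ext_iff.1 e ⟨d, a⟩).1 ha
    let i : Over.mk ((w d).left ≫ T.hom) ⟶ W d := Over.homMk (𝟙 _) (by simp)
    rw [show (Over.homMk (w d).left rfl : Over.mk ((w d).left ≫ T.hom) ⟶ T) = i ≫ w d from
      Over.OverMorphism.ext (Category.id_comp _).symm, Functor.map_comp, Category.assoc, Category.assoc]
    exact congrArg (_ ≫ ·) (ha.trans ha'.symm)

/-- algebraic spaces have small sets of sections -/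
theorem small_sections {F : Sp S} (hF : IsAlgSpace F) (T : Over S) : Small.{u} (F.obj.obj (op T)) :=
  haveI := small_hom hF T
  small_map (J S).uliftYonedaEquiv.symm

end Groth.Agent.StkSmall

end
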