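import Groth.Agent.StkSmall.Over
import Groth.Agent.StkSmall.Cover
import Groth.Prelude.Def_AlgSt2

/-!
# Smallness of morphisms and of isomorphism classes of a prestack covered by a scheme
-/

set_option autoImplicit false
set_option backward.isDefEq.respectTransparency false
set_option backward.isDefEq.respectTransparency.types false
set_option linter.style.haveILetI false
universe v₂ u₂ u

noncomputable section

namespace Groth.Agent.StkSmall

open CategoryTheory CategoryTheory.Limits AlgebraicGeometry Opposite FibCat Groth.Agent.FibCatRep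
open _root_.AlgSp _root_.AlgSt

variable {S : Scheme.{u}}

/-- prestacks with a representable map from a scheme to which objects lift locally -/
structure Pres (𝒳 : BasedCategory.{v₂, u₂} (Over S)) where
  fib : IsFibGrpd 𝒳.p
  pre : ∀ ⦃T : Over S⦄ (R : Sieve T), R ∈ J S T → Stk.IsPrestackFor R 𝒳
  U : Over S
  x : FibCat.overCat U ⥤ᵇ 𝒳
  rep : RepByAlgSp1 x
  lift : ∀ ⦃T : Over S⦄ ⦃a : 𝒳.obj⦄, 𝒳.p.obj a = T → ∀ t : T.left, ∃ (V : Over S) (h : V ⟶ T),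
    Flat h.left ∧ LocallyOfFinitePresentation h.left ∧ t ∈ Set.range h.left ∧
      ∃ (g : V ⟶ U) (ψ : x.obj (Over.mk g) ⟶ a), LiesOver ψ h

variable {𝒳 : BasedCategory.{v₂, u₂} (Over S)} (D : Pres 𝒳)

theorem Pres.small_vert_chart {T : Over S} (a b : T ⟶ D.U) :
    Small.{u} {m : D.x.obj (Over.mk a) ⟶ D.x.obj (Over.mk b) // LiesOver m (𝟙 T)} := by
  obtain ⟨F, e, he⟩ := D.rep D.U D.x
  haveI := (isEquivOver_data he).1
  have hη : ∀ m : {m : D.x.obj (Over.mk a) ⟶ D.x.obj (Over.mk b) // LiesOver m (𝟙 T)},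
      ∃ (sc : F.obj.obj.obj (op T)) (i : (e.obj ⟨T, sc⟩).obj.fst ≅ (Over.mk a : Over D.U))
        (i' : (e.obj ⟨T, sc⟩).obj.snd ≅ (Over.mk b : Over D.U)) (h : (e.obj ⟨T, sc⟩).obj.fst.left = T),
        i.hom.left = eqToHom h ∧ D.x.map i.hom ≫ m.1 = (e.obj ⟨T, sc⟩).obj.iso.hom ≫ D.x.map i'.hom := fun m => by
    obtain ⟨m, hm⟩ := m
    haveI := isIso_of_vertical D.fib hm
    obtain ⟨hz, hy, hmap⟩ := hm
    let o : (FibCat.fp D.x D.x).obj := ⟨⟨Over.mk a, Over.mk b, asIso m⟩, by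
      refine IsHomLift.of_fac' 𝒳.p _ _ (D.x.w_obj _) (D.x.w_obj _) (hmap.trans ?_)
      simp⟩
    obtain ⟨η, j, hj, hje⟩ := (isEquivOver_data he).2 o
    obtain ⟨B, sc⟩ := η
    have hB : B = T := (e.w_obj (⟨B, sc⟩ : Stk.EltObj F.obj.obj)).symm.trans hj
    subst hB
    let i := (FibCat.fpFst D.x D.x).toFunctor.mapIso j
    let i' := (FibCat.fpSnd D.x D.x).toFunctor.mapIso j
    refine ⟨sc, i, i', hj, hje, ?_⟩
    exact j.hom.hom.w
  choose sc i i' h hi hc using hη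
  haveI := small_sections (S := S) F.property T
  refine small_of_injective (f := sc) fun m m' e₀ => Subtype.ext ?_
  have key : ∀ (s₁ s₂ : F.obj.obj.obj (op T)) (_ : s₁ = s₂) (i₁ : (e.obj ⟨T, s₁⟩).obj.fst ≅ (Over.mk a : Over D.U))
      (i₂ : (e.obj ⟨T, s₂⟩).obj.fst ≅ (Over.mk a : Over D.U)) (j₁ : (e.obj ⟨T, s₁⟩).obj.snd ≅ (Over.mk b : Over D.U))
      (j₂ : (e.obj ⟨T, s₂⟩).obj.snd ≅ (Over.mk b : Over D.U)) (h₁ : (e.obj ⟨T, s₁⟩).obj.fst.left = T)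
      (h₂ : (e.obj ⟨T, s₂⟩).obj.fst.left = T), i₁.hom.left = eqToHom h₁ → i₂.hom.left = eqToHom h₂ →
      ∀ (n₁ n₂ : D.x.obj (Over.mk a) ⟶ D.x.obj (Over.mk b)),
      D.x.map i₁.hom ≫ n₁ = (e.obj ⟨T, s₁⟩).obj.iso.hom ≫ D.x.map j₁.hom →
      D.x.map i₂.hom ≫ n₂ = (e.obj ⟨T, s₂⟩).obj.iso.hom ≫ D.x.map j₂.hom →
      LiesOver n₁ (𝟙 T) → LiesOver n₂ (𝟙 T) → n₁ = n₂ := by
    rintro s₁ _ rfl i₁ i₂ j₁ j₂ h₁ h₂ hi₁ hi₂ n₁ n₂ c₁ c₂ l₁ l₂
    obtain rfl : i₁ = i₂ := Iso.ext (Over.OverMorphism.ext (hi₁.trans hi₂.symm))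
    have hl : ∀ {n : D.x.obj (Over.mk a) ⟶ D.x.obj (Over.mk b)} (j : (e.obj ⟨T, s₁⟩).obj.snd ≅ (Over.mk b : Over D.U)),
        D.x.map i₁.hom ≫ n = (e.obj ⟨T, s₁⟩).obj.iso.hom ≫ D.x.map j.hom → LiesOver n (𝟙 T) →
          j.hom.left = eqToHom ((fp_obj_eq (e.obj ⟨T, s₁⟩)).trans h₁) := fun {n} j c l => by
      obtain ⟨q, hq⟩ := map_iso_hom (e.obj ⟨T, s₁⟩)
      obtain ⟨_, _, hn⟩ := l
      have := congrArg (fun k => 𝒳.p.map k) c
      simp only [Functor.map_comp, map_map D.x, hn, hq, Category.id_comp, Category.assoc] at this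
      rw [show (FibCat.overCat D.U).p.map i₁.hom = i₁.hom.left from rfl,
        show (FibCat.overCat D.U).p.map j.hom = j.hom.left from rfl, hi₁] at this
      simp only [eqToHom_trans, eqToHom_trans_assoc] at this
      rw [← cancel_epi (eqToHom ((q.trans (D.x.w_obj _)))), ← cancel_mono (eqToHom (D.x.w_obj (Over.mk b)).symm)]
      simpa using this.symm
    obtain rfl : j₁ = j₂ := Iso.ext (Over.OverMorphism.ext ((hl j₁ c₁ l₁).trans (hl j₂ c₂ l₂).symm))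
    exact (cancel_epi (D.x.map i₁.hom)).1 (c₁.trans c₂.symm)
  exact key _ _ e₀ (i m) (i m') (i' m) (i' m') (h m) (h m') (hi m) (hi m') m.1 m'.1 (hc m) (hc m') m.2 m'.2

/-- the pieces over which an object is given by the chart -/
def Triv {T : Over S} (a : 𝒳.obj) {W : Over S} (w : W ⟶ T) : Prop :=
  ∃ (g : W ⟶ D.U) (ψ : D.x.obj (Over.mk g) ⟶ a), LiesOver ψ w

variable {D}

/-- restriction of chart objects -/
abbrev Pres.cmap (D : Pres 𝒳) {W W' : Over S} (g' : W' ⟶ D.U) (j : W ⟶ W') :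
    D.x.obj (Over.mk (j ≫ g')) ⟶ D.x.obj (Over.mk g') :=
  D.x.map (Over.homMk j rfl : (Over.mk (j ≫ g') : Over D.U) ⟶ Over.mk g')

theorem Pres.liesOver_chart {W W' : Over S} (g' : W' ⟶ D.U) (j : W ⟶ W') :
    LiesOver (D.cmap g' j) j :=
  liesOver_overCat D.x _

theorem Triv.comp {T : Over S} {a : 𝒳.obj} {W W' : Over S} {w : W' ⟶ T} (h : Triv D a w) (j : W ⟶ W') :
    Triv D a (j ≫ w) := by
  obtain ⟨g, ψ, hψ⟩ := h
  exact ⟨j ≫ g, _, (Pres.liesOver_chart g j).comp hψ⟩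

variable (D)

theorem Pres.exists_cover {T : Over S} {D₀ : Type u} {W : D₀ → Over S} {w : ∀ d, W d ⟶ T}
    (hD : ∀ (V : Over S) (h : V ⟶ T), Flat h.left → LocallyOfFinitePresentation h.left → ∀ v : V.left,
        ∃ (d : D₀) (j : W d ⟶ V), j ≫ h = w d ∧ v ∈ Set.range j.left)
    {a b : 𝒳.obj} (ha : 𝒳.p.obj a = T) (hb : 𝒳.p.obj b = T) (t : T.left) :
    ∃ d : {d : D₀ // Triv D a (w d) ∧ Triv D b (w d)}, t ∈ Set.range (w d.1).left := by
  obtain ⟨V, h, h₁, h₂, ⟨v, hv⟩, hT⟩ := D.lift ha t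
  obtain ⟨V', h', h₁', h₂', ⟨v', hv'⟩, hT'⟩ := D.lift hb t
  let Z : Over S := Over.mk (pullback.fst h.left h'.left ≫ V.hom)
  let q : Z ⟶ V := Over.homMk (pullback.fst h.left h'.left) rfl
  let q' : Z ⟶ V' := Over.homMk (pullback.snd h.left h'.left) (by
    show pullback.snd h.left h'.left ≫ V'.hom = pullback.fst h.left h'.left ≫ V.hom
    rw [← Over.w h, ← Over.w h', pullback.condition_assoc])
  have hq : q ≫ h = q' ≫ h' := Over.OverMorphism.ext pullback.condition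
  obtain ⟨z, hz, -⟩ := Scheme.Pullback.exists_preimage_pullback (f := h.left) (g := h'.left) v v' (hv.trans hv'.symm)
  haveI := h₁
  haveI := h₂
  haveI := h₁'
  haveI := h₂'
  obtain ⟨d, j, hj, x₀, hx⟩ := hD Z (q ≫ h)
    (inferInstanceAs (Flat (pullback.fst h.left h'.left ≫ h.left)))
    (inferInstanceAs (LocallyOfFinitePresentation (pullback.fst h.left h'.left ≫ h.left))) z
  have hTa : Triv D a h := hT
  have hTb : Triv D b h' := hT'
  refine ⟨⟨d, ?_, ?_⟩, x₀, ?_⟩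
  · rw [← hj, ← Category.assoc]; exact hTa.comp _
  · rw [← hj, hq, ← Category.assoc]; exact hTb.comp _
  · show (w d).left x₀ = t
    rw [← hj]
    show (j.left ≫ q.left ≫ h.left) x₀ = t
    rw [Scheme.Hom.comp_apply, hx, Scheme.Hom.comp_apply, ← hv]
    exact congrArg h.left hz

include D in
/-- vertical morphisms form small sets -/
theorem Pres.small_vert {T : Over S} {a b : 𝒳.obj} (ha : 𝒳.p.obj a = T) (hb : 𝒳.p.obj b = T) :
    Small.{u} {m : a ⟶ b // LiesOver m (𝟙 T)} := by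
  obtain ⟨D₀, W, w, hw, hD⟩ := exists_small_cover T
  let G := {d : D₀ // Triv D a (w d) ∧ Triv D b (w d)}
  choose g ψ hψ using fun d : G => d.2.1
  choose g' φ hφ using fun d : G => d.2.2
  haveI : ∀ d, Small.{u} {n : D.x.obj (Over.mk (g d)) ⟶ D.x.obj (Over.mk (g' d)) // LiesOver n (𝟙 (W d.1))} :=
    fun d => D.small_vert_chart (g d) (g' d)
  have hn : ∀ (m : {m : a ⟶ b // LiesOver m (𝟙 T)}) (d : G),
      ∃ n : {n : D.x.obj (Over.mk (g d)) ⟶ D.x.obj (Over.mk (g' d)) // LiesOver n (𝟙 (W d.1))},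
        n.1 ≫ φ d = ψ d ≫ m.1 := fun m d => by
    obtain ⟨n, h₁, h₂⟩ := exists_factor D.fib (hφ d) ((hψ d).comp m.2) (h := 𝟙 (W d.1)) (by simp)
    exact ⟨⟨n, h₁⟩, h₂⟩
  choose n hn using hn
  refine small_of_injective (f := n) fun m m' e => Subtype.ext ?_
  refine hom_ext_of_cover D.fib (W := fun d : G => W d.1) (fun d : G => w d.1)
    (R := Sieve.generate (Presieve.ofArrows (fun d : G => W d.1) (fun d => w d.1))) ?_ hψ
    (D.pre _ (generate_mem _ (fun d => hw d.1) fun t => D.exists_cover hD ha hb t)) m.2 m'.2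
    fun d => by rw [← hn, ← hn, e]
  rintro Z f ⟨Y, k, g, ⟨d⟩, rfl⟩
  exact ⟨d, k, rfl⟩

include D in
set_option maxHeartbeats 1000000 in
/-- isomorphism classes of objects over a scheme form a small set -/
theorem Pres.exists_classes (T : Over S) :
    ∃ (α : Type u) (c : {a : 𝒳.obj // 𝒳.p.obj a = T} → α),
      ∀ a b, c a = c b → ∃ m : a.1 ⟶ b.1, LiesOver m (𝟙 T) := by
  classical
  obtain ⟨D₀, W, w, hw, hD⟩ := exists_small_cover T
  let P : D₀ → D₀ → Over S := fun d d' => Over.mk (pullback.fst (w d).left (w d').left ≫ (W d).hom)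
  let p₁ : ∀ d d', P d d' ⟶ W d := fun d d' => Over.homMk (pullback.fst (w d).left (w d').left) rfl
  let p₂ : ∀ d d', P d d' ⟶ W d' := fun d d' => Over.homMk (pullback.snd (w d).left (w d').left) (by
    show pullback.snd (w d).left (w d').left ≫ (W d').hom = pullback.fst (w d).left (w d').left ≫ (W d).hom
    rw [← Over.w (w d), ← Over.w (w d'), pullback.condition_assoc])
  have hP : ∀ d d', p₁ d d' ≫ w d = p₂ d d' ≫ w d' := fun d d' => Over.OverMorphism.ext pullback.condition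
  let V : ∀ d d', (W d ⟶ D.U) → (W d' ⟶ D.U) → Type v₂ := fun d d' g g' =>
    {m : D.x.obj (Over.mk (p₁ d d' ≫ g)) ⟶ D.x.obj (Over.mk (p₂ d d' ≫ g')) // LiesOver m (𝟙 (P d d'))}
  haveI : ∀ d d' g g', Small.{u} (V d d' g g') := fun d d' g g' => D.small_vert_chart _ _
  let G : {a : 𝒳.obj // 𝒳.p.obj a = T} → Type u := fun a => {d : D₀ // Triv D a.1 (w d)}
  choose g ψ hψ using fun (a : {a : 𝒳.obj // 𝒳.p.obj a = T}) (d : G a) => d.2
  have hnu : ∀ a (d d' : G a), ∃ n : V d.1 d'.1 (g a d) (g a d'),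
      n.1 ≫ D.cmap (g a d') (p₂ d.1 d'.1) ≫ ψ a d' =
        D.cmap (g a d) (p₁ d.1 d'.1) ≫ ψ a d :=
    fun a d d' => by
    obtain ⟨n, h₁, h₂⟩ := exists_factor D.fib ((Pres.liesOver_chart (g a d') (p₂ d.1 d'.1)).comp (hψ a d'))
      ((Pres.liesOver_chart (g a d) (p₁ d.1 d'.1)).comp (hψ a d)) (by rw [Category.id_comp]; exact (hP _ _).symm)
    exact ⟨⟨n, h₁⟩, h₂⟩
  choose nu hnu using hnu
  let code : {a : 𝒳.obj // 𝒳.p.obj a = T} → Set (Σ d d' : D₀, Σ g : W d ⟶ D.U, Σ g' : W d' ⟶ D.U,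
      Shrink.{u} (V d d' g g')) :=
    fun a => Set.range fun x : G a × G a => ⟨x.1.1, x.2.1, g a x.1, g a x.2, equivShrink _ (nu a x.1 x.2)⟩
  refine ⟨_, code, fun a b e => ?_⟩
  have key : ∀ d d' : G a, ∃ (q q' : G b), q.1 = d.1 ∧ q'.1 = d'.1 ∧
      ∃ (φ : D.x.obj (Over.mk (g a d)) ⟶ b.1) (φ' : D.x.obj (Over.mk (g a d')) ⟶ b.1),
        LiesOver φ (w d.1) ∧ LiesOver φ' (w d'.1) ∧ HEq φ (ψ b q) ∧ HEq φ' (ψ b q') ∧
          (nu a d d').1 ≫ D.cmap (g a d') (p₂ d.1 d'.1) ≫ φ' =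
            D.cmap (g a d) (p₁ d.1 d'.1) ≫ φ := fun d d' => by
    obtain ⟨⟨⟨d₀, hd₀⟩, ⟨d₀', hd₀'⟩⟩, hq⟩ : (⟨d.1, d'.1, g a d, g a d', equivShrink _ (nu a d d')⟩ :
        Σ d d' : D₀, Σ g : W d ⟶ D.U, Σ g' : W d' ⟶ D.U, Shrink.{u} (V d d' g g')) ∈ code b := e ▸ ⟨(d, d'), rfl⟩
    obtain ⟨r₁, hq⟩ := Sigma.mk.inj_iff.1 hq
    dsimp only at r₁
    subst r₁
    obtain ⟨r₂, hq⟩ := Sigma.mk.inj_iff.1 (eq_of_heq hq)
    dsimp only at r₂
    subst r₂
    obtain ⟨r₃, hq⟩ := Sigma.mk.inj_iff.1 (eq_of_heq hq)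
    refine ⟨⟨d.1, hd₀⟩, ⟨d'.1, hd₀'⟩, rfl, rfl, ?_⟩
    revert hq
    generalize nu a d d' = n
    revert n
    generalize g a d' = gd'
    generalize g a d = gd at r₃
    subst r₃
    intro n hq
    obtain ⟨r₄, hq⟩ := Sigma.mk.inj_iff.1 (eq_of_heq hq)
    dsimp only at r₄
    subst r₄
    obtain rfl := (equivShrink _).injective (eq_of_heq hq)
    exact ⟨_, _, hψ b _, hψ b _, HEq.rfl, HEq.rfl, hnu b _ _⟩
  have h0 : ∀ d : G a, ∃ (φ : D.x.obj (Over.mk (g a d)) ⟶ b.1), LiesOver φ (w d.1) ∧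
      ∀ q : G b, q.1 = d.1 → HEq φ (ψ b q) := fun d => by
    obtain ⟨q, q', hq, -, φ, φ', h₁, -, h₃, -⟩ := key d d
    exact ⟨φ, h₁, fun q₀ h₀ => by obtain rfl : q₀ = q := Subtype.ext (h₀.trans hq.symm); exact h₃⟩
  choose χ hχ hχ' using h0
  obtain ⟨m, hm, -⟩ := exists_glue D.fib (W := fun d : G a => W d.1) (fun d : G a => w d.1)
    (R := Sieve.generate (Presieve.ofArrows (fun d : G a => W d.1) (fun d => w d.1)))
    (by rintro Z f ⟨Y, k, g, ⟨d⟩, rfl⟩; exact ⟨d, k, rfl⟩) (hψ a)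
    (D.pre _ (generate_mem _ (fun d => hw d.1) fun t => by
      obtain ⟨⟨d, hd⟩, ht⟩ := D.exists_cover hD a.2 a.2 t
      exact ⟨⟨d, hd.1⟩, ht⟩))
    (fun d => ⟨_, 𝟙 _, _, ⟨d⟩, Category.id_comp _⟩) a.2 b.2 hχ fun d d' {q Z f f'} k k' hk hk' hc => by
      obtain ⟨q₀, q₀', r, r', φ, φ', -, -, hφ, hφ', hn⟩ := key d d'
      obtain rfl : φ = χ d := eq_of_heq (hφ.trans (hχ' d q₀ r).symm)
      obtain rfl : φ' = χ d' := eq_of_heq (hφ'.trans (hχ' d' q₀' r').symm)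
      have hf : f ≫ w d.1 = f' ≫ w d'.1 := by
        obtain ⟨h₁, h₂, e₁⟩ := hk.comp (hψ a d)
        obtain ⟨h₁', h₂', e₂⟩ := hk'.comp (hψ a d')
        rw [hc, e₂] at e₁
        rw [← cancel_epi (eqToHom h₁), ← cancel_mono (eqToHom h₂.symm)]
        simpa using e₁.symm
      let r₀ : Z ⟶ P d.1 d'.1 := Over.homMk (pullback.lift f.left f'.left (congrArg CommaMorphism.left hf)) (by
        show pullback.lift f.left f'.left _ ≫ pullback.fst _ _ ≫ _ = _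
        rw [pullback.lift_fst_assoc, Over.w f])
      have hr₁ : r₀ ≫ p₁ d.1 d'.1 = f := Over.OverMorphism.ext (pullback.lift_fst _ _ _)
      have hr₂ : r₀ ≫ p₂ d.1 d'.1 = f' := Over.OverMorphism.ext (pullback.lift_snd _ _ _)
      obtain ⟨κ₁, hκ₁, hκc₁⟩ := exists_factor D.fib (Pres.liesOver_chart (g a d) (p₁ d.1 d'.1)) hk hr₁
      obtain ⟨κ₂, hκ₂, hκc₂⟩ := exists_factor D.fib (Pres.liesOver_chart (g a d') (p₂ d.1 d'.1)) hk' hr₂
      have hκ : κ₁ ≫ (nu a d d').1 = κ₂ := by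
        refine factor_unique D.fib (φ := D.cmap (g a d') (p₂ d.1 d'.1) ≫ ψ a d')
          (h := r₀) (by simpa using hκ₁.comp (nu a d d').2) hκ₂ ?_
        rw [Category.assoc, hnu, ← Category.assoc, hκc₁, hc, ← hκc₂, Category.assoc]
      rw [← hκc₁, ← hκc₂, Category.assoc, Category.assoc, ← hn, ← hκ, Category.assoc]
  exact ⟨m, hm⟩

end Groth.Agent.StkSmall

end
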