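import Groth.Agent.StkSmall.Classes
import Groth.Agent.AlgStLib.Calc
import Groth.Agent.AlgStLib.Points
import Groth.Agent.AlgSpLib.LocP

/-!
# Algebraic stacks in any universe are equivalent to categories of small size
-/

set_option autoImplicit false
set_option backward.isDefEq.respectTransparency false
set_option backward.isDefEq.respectTransparency.types false
set_option linter.style.haveILetI false
universe v₂ u₂ u

noncomputable section

namespace Groth.Agent.StkSmall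

open CategoryTheory CategoryTheory.Limits AlgebraicGeometry Opposite FibCat Groth.Agent.FibCatRep
  Groth.Agent.FibCat2Misc Groth.Agent.StkBasic Groth.Agent.AlgSpLib Groth.Agent.AlgStLib
open _root_.AlgSp _root_.AlgSt

variable {S : Scheme.{u}} {𝒳 : BasedCategory.{v₂, u₂} (Over S)}

theorem respectsIso_locP_scheme (P : MorphismProperty Scheme.{u}) [P.RespectsIso] :
    (LocP (S := S) P).RespectsIso := by
  apply MorphismProperty.RespectsIso.of_respects_arrow_iso
  intro p q e hp U V a b h ha hb comm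
  have w : e.inv.left ≫ p.hom = q.hom ≫ e.inv.right := e.inv.w
  exact hp (a ≫ e.inv.left) (b ≫ e.inv.right) h ((repWith_comp_iso_iff a e.inv.left).2 ha)
    ((repWith_comp_iso_iff b e.inv.right).2 hb) (by rw [Category.assoc, w, reassoc_of% comm])

theorem respectsIso_isSurjective : (IsSurjectiveMor (S := S)).RespectsIso := by
  apply MorphismProperty.RespectsIso.of_respects_arrow_iso
  intro p q e hp z
  obtain ⟨w, hw⟩ := hp (Points.map e.inv.right z)
  refine ⟨Points.map e.hom.left w, ?_⟩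
  rw [← Points.map_comp, show e.hom.left ≫ q.hom = p.hom ≫ e.hom.right from e.hom.w, Points.map_comp, hw,
    ← Points.map_comp, show e.inv.right ≫ e.hom.right = 𝟙 _ from congrArg Arrow.Hom.right e.inv_hom_id, Points.map_id]

/-- composition of maps of presheaves as functors -/
def compPshIso {P Q R : PSp S} (a : P ⟶ Q) (b : Q ⟶ R) :
    BasedFunctor.comp (Stk.ofPshMap a) (Stk.ofPshMap b) ≅ Stk.ofPshMap (a ≫ b) :=
  isoOfSec _ _ fun z => by
    rw [secOf_comp_ofPshMap, secOf_ofPshMap, secOf_ofPshMap]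
    rfl

/-- points lift fppf locally along flat, locally finitely presented, surjective charts -/
theorem exists_lift_chart {B : PSp S} {g : Stk.ofPsh B ⥤ᵇ 𝒳}
    (hg : RepByAlgSpWith (LocP (@Flat ⊓ @LocallyOfFinitePresentation)) g) (hgs : RepByAlgSpWith IsSurjectiveMor g)
    (T : Over S) (y : Stk.ofPsh ((pyon S).obj T) ⥤ᵇ 𝒳) : ∃ (V : Over S) (h : V ⟶ T),
      Flat h.left ∧ Surjective h.left ∧ LocallyOfFinitePresentation h.left ∧
      ∃ z : Stk.ofPsh ((pyon S).obj V) ⥤ᵇ Stk.ofPsh B,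
        Nonempty (BasedFunctor.comp z g ≅ BasedFunctor.comp (Stk.ofPshMap ((pyon S).map h)) y) := by
  haveI := respectsIso_locP_scheme (S := S) (@Flat ⊓ @LocallyOfFinitePresentation)
  haveI := respectsIso_isSurjective (S := S)
  obtain ⟨P, e, he, hP, hA, hq⟩ := (AlgStLib.repWith_iff _ g).1 hg T y
  obtain ⟨_, _, hs⟩ := good_of_model hgs he
  let π : (⟨P, hP⟩ : Sp S) ⟶ (yon S).obj T := ObjectProperty.homMk (prjMap e)
  obtain ⟨V, p, hp, hps⟩ := hA.atlas
  obtain ⟨h, hh⟩ := (yon S).map_surjective (p ≫ π)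
  obtain ⟨h₁, h₃⟩ := hq p (𝟙 _) h hp (repWith_id _ _) (by rw [Category.comp_id]; exact hh.symm)
  have h₂ : Surjective h.left := ⟨fun t => by
    obtain ⟨q, hq⟩ := hs (Points.ofScheme T t)
    obtain ⟨v, rfl⟩ := AlgSpLib.ofPt_surjective hps q
    rw [Points.map_ofPt] at hq
    change Points.ofPt (p ≫ π) v = _ at hq
    rw [← hh, AlgSpLib.ofScheme_map] at hq
    exact ⟨v, (Points.schemeEquiv T).injective hq⟩⟩
  refine ⟨V, h, h₁, h₂, h₃, BasedFunctor.comp (BasedFunctor.comp (Stk.ofPshMap p.hom) e) (FibCat.fpSnd y g), ⟨?_⟩⟩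
  let i₁ : BasedFunctor.comp (Stk.ofPshMap p.hom) (BasedFunctor.comp e (FibCat.fpFst y g)) ≅
      Stk.ofPshMap ((pyon S).map h) :=
    (Stk.restr (Stk.ofPshMap p.hom) _).mapIso (mapOfIso (BasedFunctor.comp e (FibCat.fpFst y g))).symm ≪≫
      compPshIso _ _ ≪≫ eqToIso (congrArg Stk.ofPshMap (congrArg (fun k => k.hom) hh).symm)
  exact (Stk.restr (BasedFunctor.comp (Stk.ofPshMap p.hom) e) _).mapIso (FibCat.fpIso y g).symm ≪≫
    (post _ y).mapIso i₁

/-- the presentation given by an atlas -/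
theorem exists_pres (h : IsAlgStack Scheme.fppfPrecoverage 𝒳) : Nonempty (Pres 𝒳) := by
  obtain ⟨U, x, hx, hxs⟩ := h.atlas
  let g₀ := BasedFunctor.comp (toOverCat U) x
  have hs₀ : RepByAlgSpWith IsSurjectiveMor g₀ :=
    (repWith_iff_of_equiv _ x g₀ (toOverCat U) (BasedFunctor.id 𝒳) (isEquivOver_toOverCat U) isEquivOver_id
      (Iso.refl _)).1 hxs
  have hf₀ : RepByAlgSpWith (LocP (@Flat ⊓ @LocallyOfFinitePresentation)) g₀ :=
    AlgStLib.repWith_mono ((repWith_iff_of_equiv _ x g₀ (toOverCat U) (BasedFunctor.id 𝒳) (isEquivOver_toOverCat U)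
      isEquivOver_id (Iso.refl _)).1 hx) fun _ _ a _ ha U₁ V₁ p q k h₁ h₂ c => by
        haveI : Smooth k.left := ha p q k h₁ h₂ c
        exact ⟨inferInstance, inferInstance⟩
  have hL := exists_lift_chart (B := (pyon S).obj U) (g := g₀) hf₀ hs₀
  refine ⟨{
    fib := h.isStack.1
    pre := fun T R hR => by
      haveI : (Stk.resSieve R 𝒳).IsEquivalence := h.isStack.2 R hR
      exact ⟨inferInstance, inferInstance⟩
    U := U
    x := x
    rep := repByAlgSp1_of_with hx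
    lift := fun T a ha t => ?_ }⟩
  obtain ⟨G, i, hi⟩ := exists_slice h.isStack.1 ha
  obtain ⟨V, γ, h₁, h₂, h₃, z, ⟨α⟩⟩ := hL T (BasedFunctor.comp (toOverCat T) G)
  haveI := h₂
  obtain ⟨v, hv⟩ := γ.left.surjective t
  refine ⟨V, γ, h₁, h₃, ⟨v, hv⟩, ?_⟩
  let pV : (Stk.ofPsh ((pyon S).obj V)).obj := ⟨V, ⟨𝟙 V⟩⟩
  let o : Over U := (toOverCat U).obj (z.obj pV)
  have ho : o.left = V := ((toOverCat U).w_obj _).trans (z.w_obj pV)
  let g : V ⟶ U := eqToHom ho.symm ≫ o.hom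
  let ζ : (Over.mk g : Over U) ⟶ o := Over.homMk (eqToHom ho.symm) rfl
  let o' : Over T := (toOverCat T).obj ((Stk.ofPshMap ((pyon S).map γ)).obj pV)
  let τ : o' ⟶ Over.mk (𝟙 T) := Over.homMk o'.hom (Category.comp_id _)
  refine ⟨g, x.map ζ ≫ α.hom.toNatTrans.app pV ≫ G.map τ ≫ i, ?_⟩
  have hα : LiesOver (α.hom.toNatTrans.app pV) (eqToHom ho) :=
    ⟨(x.w_obj o), (G.w_obj o').trans rfl, by
      rw [map_app α.hom pV]
      simp⟩
  have := ((liesOver_overCat x ζ).comp hα).comp ((liesOver_overCat G τ).comp hi)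
  have e : (ζ.left ≫ eqToHom ho) ≫ (τ.left ≫ 𝟙 T : o'.left ⟶ T) = γ := by
    show (eqToHom ho.symm ≫ eqToHom ho) ≫ ((𝟙 V ≫ γ) ≫ 𝟙 T) = γ
    simp
  rw [e] at this
  simpa only [Category.assoc] using this

variable (D : Pres 𝒳)

/-- the label of an isomorphism class -/
def Pres.code (T : Over S) : {a : 𝒳.obj // 𝒳.p.obj a = T} → (D.exists_classes T).choose :=
  (D.exists_classes T).choose_spec.choose

theorem Pres.exists_of_code {T : Over S} {a b : {a : 𝒳.obj // 𝒳.p.obj a = T}} (h : D.code T a = D.code T b) :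
    ∃ m : a.1 ⟶ b.1, LiesOver m (𝟙 T) :=
  (D.exists_classes T).choose_spec.choose_spec a b h

/-- the objects of the small model -/
def Pres.Idx : Type (u + 1) := Σ T : Over S, Set.range (D.code T)

/-- the representative of a class -/
def Pres.reprObj (o : D.Idx) : 𝒳.obj := o.2.2.choose.1

include D in
theorem Pres.locallySmall : LocallySmall.{u} 𝒳.obj := by
  refine ⟨fun a b => ?_⟩
  have hl : ∀ φ : 𝒳.p.obj a ⟶ 𝒳.p.obj b, ∃ (c : 𝒳.obj) (ψ : c ⟶ b), LiesOver ψ φ :=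
    fun φ => exists_lift_over D.fib φ rfl
  choose c ψ hψ using hl
  haveI : ∀ φ, Small.{u} {m : a ⟶ c φ // LiesOver m (𝟙 (𝒳.p.obj a))} := fun φ => D.small_vert rfl (hψ φ).src
  have hm : ∀ m : a ⟶ b, ∃ n : {n : a ⟶ c (𝒳.p.map m) // LiesOver n (𝟙 (𝒳.p.obj a))}, n.1 ≫ ψ _ = m := fun m => by
    obtain ⟨n, h₁, h₂⟩ := exists_factor D.fib (hψ (𝒳.p.map m))
      (show LiesOver m (𝒳.p.map m) from ⟨rfl, rfl, by simp⟩) (h := 𝟙 _) (Category.id_comp _)
    exact ⟨⟨n, h₁⟩, h₂⟩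
  choose n hn using hm
  refine small_of_injective (f := fun m => (⟨𝒳.p.map m, n m⟩ :
    Σ φ : 𝒳.p.obj a ⟶ 𝒳.p.obj b, {k : a ⟶ c φ // LiesOver k (𝟙 (𝒳.p.obj a))})) fun m m' e => ?_
  have := congrArg (fun q : Σ φ : 𝒳.p.obj a ⟶ 𝒳.p.obj b, {k : a ⟶ c φ // LiesOver k (𝟙 (𝒳.p.obj a))} =>
    q.2.1 ≫ ψ q.1) e
  simpa [hn] using this

/-- the category of representatives -/
abbrev Pres.Ind := InducedCategory 𝒳.obj D.reprObj

theorem Pres.locallySmall_ind : LocallySmall.{u} D.Ind :=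
  ⟨fun a b => by
    haveI := D.locallySmall
    exact small_of_injective (f := fun m : a ⟶ b => (inducedFunctor D.reprObj).map m)
      fun m m' h => (inducedFunctor D.reprObj).map_injective h⟩

/-- algebraic stacks are equivalent to categories over the base of the size of `AlgSt.Cat` -/
theorem exists_small_model (h : IsAlgStack Scheme.fppfPrecoverage 𝒳) :
    ∃ (𝒳' : AlgSt.Cat S) (E : 𝒳' ⥤ᵇ 𝒳), FibCat.IsEquivOver E := by
  obtain ⟨D⟩ := exists_pres h
  haveI := D.locallySmall_ind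
  let F : ShrinkHoms.{u + 1} D.Ind ⥤ 𝒳.obj := ShrinkHoms.inverse.{u} D.Ind ⋙ inducedFunctor D.reprObj
  let 𝒳' : AlgSt.Cat S := { obj := ShrinkHoms.{u + 1} D.Ind, p := F ⋙ 𝒳.p }
  let E : 𝒳' ⥤ᵇ 𝒳 := { toFunctor := F, w := rfl }
  haveI : E.toFunctor.Full := inferInstanceAs F.Full
  haveI : E.toFunctor.Faithful := inferInstanceAs F.Faithful
  refine ⟨𝒳', E, isEquivOver_of_fullyFaithful E fun η => ?_⟩
  let i : Set.range (D.code (𝒳.p.obj η)) := ⟨D.code _ ⟨η, rfl⟩, _, rfl⟩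
  obtain ⟨m, hm⟩ := D.exists_of_code (a := i.2.choose) (b := ⟨η, rfl⟩) i.2.choose_spec
  haveI := isIso_of_vertical D.fib hm
  refine ⟨(⟨𝒳.p.obj η, i⟩ : D.Idx), asIso m, i.2.choose.2, ?_⟩
  obtain ⟨h₁, h₂, e⟩ := hm
  rw [asIso_hom, e]
  simp

end Groth.Agent.StkSmall

end
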