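import Groth.Agent.FibCatRep.Cart
import Groth.Prelude.Def_AlgSt

/-!
# Morphisms over a morphism of the base, and gluing of vertical morphisms in a prestack (any universes)
-/

set_option autoImplicit false
set_option backward.isDefEq.respectTransparency false
set_option backward.isDefEq.respectTransparency.types false
set_option linter.style.haveILetI false
universe v₂ u₂ v u

noncomputable section

namespace Groth.Agent.StkSmall

open CategoryTheory CategoryTheory.Limits FibCat Groth.Agent.FibCatRep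

variable {C : Type u} [Category.{v} C] {𝒳 : BasedCategory.{v₂, u₂} C}

/-- `ψ` lies over `f` -/
def LiesOver {z a : 𝒳.obj} (ψ : z ⟶ a) {Z T : C} (f : Z ⟶ T) : Prop :=
  ∃ (hz : 𝒳.p.obj z = Z) (ha : 𝒳.p.obj a = T), 𝒳.p.map ψ = eqToHom hz ≫ f ≫ eqToHom ha.symm

theorem LiesOver.comp {z a b : 𝒳.obj} {ψ : z ⟶ a} {χ : a ⟶ b} {Z T T' : C} {f : Z ⟶ T} {g : T ⟶ T'}
    (h₁ : LiesOver ψ f) (h₂ : LiesOver χ g) : LiesOver (ψ ≫ χ) (f ≫ g) := by
  obtain ⟨hz, ha, e₁⟩ := h₁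
  obtain ⟨ha', hb, e₂⟩ := h₂
  exact ⟨hz, hb, by rw [Functor.map_comp, e₁, e₂]; simp⟩

theorem LiesOver.src {z a : 𝒳.obj} {ψ : z ⟶ a} {Z T : C} {f : Z ⟶ T} (h : LiesOver ψ f) : 𝒳.p.obj z = Z := h.1

theorem LiesOver.tgt {z a : 𝒳.obj} {ψ : z ⟶ a} {Z T : C} {f : Z ⟶ T} (h : LiesOver ψ f) : 𝒳.p.obj a = T :=
  h.2.1

theorem liesOver_id {a : 𝒳.obj} {T : C} (ha : 𝒳.p.obj a = T) : LiesOver (𝟙 a) (𝟙 T) :=
  ⟨ha, ha, by simp⟩

theorem liesOver_map {𝒲 : BasedCategory.{v₂, u₂} C} (F : 𝒲 ⥤ᵇ 𝒳) {z a : 𝒲.obj} {ψ : z ⟶ a} {Z T : C}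
    {f : Z ⟶ T} (h : LiesOver ψ f) : LiesOver (F.map ψ) f := by
  obtain ⟨hz, ha, e⟩ := h
  exact ⟨(F.w_obj z).trans hz, (F.w_obj a).trans ha, by rw [map_map F, e]; simp⟩

theorem liesOver_overCat {U : C} (F : FibCat.overCat U ⥤ᵇ 𝒳) {z a : Over U} (m : z ⟶ a) :
    LiesOver (F.map m) m.left :=
  ⟨F.w_obj z, F.w_obj a, by rw [map_map F]; rfl⟩

variable (hp : IsFibGrpd 𝒳.p)
include hp

theorem exists_lift_over {a : 𝒳.obj} {Z T : C} (f : Z ⟶ T) (ha : 𝒳.p.obj a = T) :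
    ∃ (z : 𝒳.obj) (ψ : z ⟶ a), LiesOver ψ f := by
  obtain ⟨z, ψ, hz, e⟩ := exists_lift hp (x := a) (f ≫ eqToHom ha.symm)
  exact ⟨z, ψ, hz, ha, e⟩

theorem exists_factor {y z x : 𝒳.obj} {φ : y ⟶ x} {ψ : z ⟶ x} {Y Z X : C} {g : Y ⟶ X} {f : Z ⟶ X} {h : Z ⟶ Y}
    (hφ : LiesOver φ g) (hψ : LiesOver ψ f) (e : h ≫ g = f) : ∃ χ : z ⟶ y, LiesOver χ h ∧ χ ≫ φ = ψ := by
  obtain ⟨hy, hx, e₁⟩ := hφ
  obtain ⟨hz, hx', e₂⟩ := hψ
  obtain ⟨χ, ⟨hχ, hc⟩, -⟩ := existsUnique_cart hp φ ψ (eqToHom hz ≫ h ≫ eqToHom hy.symm) (by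
    rw [e₁, e₂, ← e]; simp)
  exact ⟨χ, ⟨hz, hy, hχ⟩, hc⟩

theorem factor_unique {y z x : 𝒳.obj} {φ : y ⟶ x} {χ χ' : z ⟶ y} {Y Z : C} {h : Z ⟶ Y}
    (h₁ : LiesOver χ h) (h₂ : LiesOver χ' h) (e : χ ≫ φ = χ' ≫ φ) : χ = χ' := by
  obtain ⟨hz, hy, e₁⟩ := h₁
  obtain ⟨hz', hy', e₂⟩ := h₂
  exact cancel hp φ (by rw [e₁, e₂]) e

theorem isIso_of_vertical {z a : 𝒳.obj} {ψ : z ⟶ a} {T : C} (h : LiesOver ψ (𝟙 T)) : IsIso ψ := by
  obtain ⟨hz, ha, e⟩ := h
  haveI : IsIso (𝒳.p.map ψ) := by rw [e, Category.id_comp]; infer_instance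
  exact isIso_of_map hp ψ

theorem liesOver_inv {z a : 𝒳.obj} {ψ : z ⟶ a} {T : C} (h : LiesOver ψ (𝟙 T)) [IsIso ψ] :
    LiesOver (inv ψ) (𝟙 T) := by
  obtain ⟨hz, ha, e⟩ := h
  refine ⟨ha, hz, ?_⟩
  rw [Category.id_comp, eqToHom_trans]
  exact map_inv_of_eqToHom (h := hz.trans ha.symm) _ (e.trans (by simp))

/-- every object is the value of a functor out of a slice -/
theorem exists_slice {T : C} {a : 𝒳.obj} (ha : 𝒳.p.obj a = T) :
    ∃ (G : FibCat.overCat T ⥤ᵇ 𝒳) (i : G.obj (Over.mk (𝟙 T)) ⟶ a), LiesOver i (𝟙 T) := by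
  have hl : ∀ z : Over T, ∃ (y : 𝒳.obj) (φ : y ⟶ a), LiesOver φ z.hom := fun z => exists_lift_over hp z.hom ha
  choose y φ hφ using hl
  have hn : ∀ {z z' : Over T} (n : z ⟶ z'), ∃ χ : y z ⟶ y z', LiesOver χ n.left ∧ χ ≫ φ z' = φ z :=
    fun {z z'} n => exists_factor hp (hφ z') (hφ z) (Over.w n)
  choose χ hχ hc using fun z z' (n : z ⟶ z') => hn n
  let G : FibCat.overCat T ⥤ᵇ 𝒳 :=
    { toFunctor :=
        { obj := y
          map := fun {z z'} n => χ z z' n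
          map_id := fun z => factor_unique hp (hχ z z (𝟙 z)) (liesOver_id (hφ z).src)
            ((hc z z (𝟙 z)).trans (Category.id_comp _).symm)
          map_comp := fun {a b c} n n' => factor_unique hp (φ := φ c) (hχ a c (n ≫ n'))
            ((hχ a b n).comp (hχ b c n')) (by rw [hc, Category.assoc, hc, hc]) }
      w := CategoryTheory.Functor.ext (fun z => (hφ z).src) (fun z z' n => by
        obtain ⟨_, _, e⟩ := hχ z z' n
        exact e) }
  exact ⟨G, φ (Over.mk (𝟙 T)), hφ (Over.mk (𝟙 T))⟩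

/-- vertical morphisms extend to slice functors -/
theorem exists_hom_slice {T : C} (G H : FibCat.overCat T ⥤ᵇ 𝒳) (m : G.obj (Over.mk (𝟙 T)) ⟶ H.obj (Over.mk (𝟙 T)))
    (hm : LiesOver m (𝟙 T)) : ∃ α : G ⟶ H, α.toNatTrans.app (Over.mk (𝟙 T)) = m := by
  let t : Over T := Over.mk (𝟙 T)
  let mz : ∀ z : Over T, z ⟶ t := fun z => Over.homMk z.hom (Category.comp_id _)
  have hx : ∀ z, ∃ χ : G.obj z ⟶ H.obj z, LiesOver χ (𝟙 z.left) ∧ χ ≫ H.map (mz z) = G.map (mz z) ≫ m :=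
    fun z => exists_factor hp (liesOver_overCat H (mz z)) ((liesOver_overCat G (mz z)).comp hm)
      (by simp [mz, t])
  choose χ hχ hc using hx
  let α : G.toFunctor ⟶ H.toFunctor :=
    { app := χ
      naturality := fun z z' n => factor_unique hp (φ := H.map (mz z')) (h := n.left)
        (by simpa using (liesOver_overCat G n).comp (hχ z'))
        (by simpa using (hχ z).comp (liesOver_overCat H n)) (by
          have hmz : n ≫ mz z' = mz z := Over.OverMorphism.ext (Over.w n)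
          rw [Category.assoc, Category.assoc, hc, ← Functor.map_comp_assoc, ← Functor.map_comp, hmz, hc]) }
  refine ⟨⟨α, fun z => ?_⟩, ?_⟩
  · obtain ⟨h₁, h₂, e⟩ := hχ z
    exact IsHomLift.of_fac' 𝒳.p _ _ (G.w_obj z) (H.w_obj z) (e.trans (by simp))
  · refine factor_unique hp (φ := H.map (mz t)) (hχ t) hm ?_
    show χ t ≫ _ = _
    rw [hc, show mz t = 𝟙 t from Over.OverMorphism.ext rfl, G.toFunctor.map_id, H.toFunctor.map_id,
      Category.id_comp, Category.comp_id]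

omit hp in
theorem liesOver_app {T : C} {G H : FibCat.overCat T ⥤ᵇ 𝒳} (α : G ⟶ H) (z : Over T) :
    LiesOver (α.toNatTrans.app z) (𝟙 z.left) :=
  ⟨G.w_obj z, H.w_obj z, by rw [map_app]; simp⟩

section glue

variable {T : C} {ι : Type*} {W : ι → C} (w : ∀ d, W d ⟶ T) {R : Sieve T}
  (hR : ∀ ⦃Z : C⦄ (f : Z ⟶ T), R f → ∃ (d : ι) (h : Z ⟶ W d), h ≫ w d = f)
  {z : ι → 𝒳.obj} {a b : 𝒳.obj} {ψ : ∀ d, z d ⟶ a} (hψ : ∀ d, LiesOver (ψ d) (w d))
include hR hψ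

/-- vertical morphisms agreeing on a cover are equal -/
theorem hom_ext_of_cover (h : Stk.IsPrestackFor R 𝒳) {m m' : a ⟶ b} (hm : LiesOver m (𝟙 T))
    (hm' : LiesOver m' (𝟙 T)) (e : ∀ d, ψ d ≫ m = ψ d ≫ m') : m = m' := by
  obtain ⟨G, i, hi⟩ := exists_slice hp hm.src
  obtain ⟨H, j, hj⟩ := exists_slice hp hm.tgt
  haveI := isIso_of_vertical hp hj
  have hlo : ∀ (n : a ⟶ b), LiesOver n (𝟙 T) → LiesOver (i ≫ n ≫ inv j) (𝟙 T) := fun n hn => by
    simpa using hi.comp (hn.comp (liesOver_inv hp hj))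
  obtain ⟨α, hα⟩ := exists_hom_slice hp G H _ (hlo m hm)
  obtain ⟨α', hα'⟩ := exists_hom_slice hp G H _ (hlo m' hm')
  haveI := h.2
  have key : α = α' := (Stk.resSieve R 𝒳).map_injective (by
    refine BasedNatTrans.homCategory.ext _ _ (NatTrans.ext (funext fun o => ?_))
    show α.toNatTrans.app o.obj = α'.toNatTrans.app o.obj
    let mo : o.obj ⟶ Over.mk (𝟙 T) := Over.homMk o.obj.hom (Category.comp_id _)
    obtain ⟨d, h, hh⟩ := hR _ o.property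
    obtain ⟨k, -, hkc⟩ := exists_factor hp (hψ d) ((liesOver_overCat G mo).comp hi)
      (show h ≫ w d = mo.left ≫ 𝟙 T by simpa [mo] using hh)
    refine factor_unique hp (φ := H.map mo) (liesOver_app α _) (liesOver_app α' _) ?_
    rw [← α.toNatTrans.naturality mo, ← α'.toNatTrans.naturality mo, hα, hα']
    show G.map mo ≫ i ≫ m ≫ inv j = G.map mo ≫ i ≫ m' ≫ inv j
    rw [← reassoc_of% hkc, ← reassoc_of% hkc, reassoc_of% e d])
  have := hα.symm.trans ((congrArg (fun η => η.toNatTrans.app (Over.mk (𝟙 T))) key).trans hα')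
  haveI hii := isIso_of_vertical hp hi
  exact (cancel_mono (inv j)).1 ((cancel_epi i).1 this)

/-- vertical morphisms glue -/
theorem exists_glue (h : Stk.IsPrestackFor R 𝒳) (hmem : ∀ d, R (w d)) (ha : 𝒳.p.obj a = T) (hb : 𝒳.p.obj b = T)
    {χ : ∀ d, z d ⟶ b} (hχ : ∀ d, LiesOver (χ d) (w d))
    (comp : ∀ (d d' : ι) {q : 𝒳.obj} {Z : C} {f : Z ⟶ W d} {f' : Z ⟶ W d'} (k : q ⟶ z d) (k' : q ⟶ z d'),
      LiesOver k f → LiesOver k' f' → k ≫ ψ d = k' ≫ ψ d' → k ≫ χ d = k' ≫ χ d') :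
    ∃ m : a ⟶ b, LiesOver m (𝟙 T) ∧ ∀ d, ψ d ≫ m = χ d := by
  obtain ⟨G, i, hi⟩ := exists_slice hp ha
  obtain ⟨H, j, hj⟩ := exists_slice hp hb
  haveI := isIso_of_vertical hp hi
  let mo : ∀ o : Over T, o ⟶ Over.mk (𝟙 T) := fun o => Over.homMk o.hom (Category.comp_id _)
  have hG : ∀ o : Over T, LiesOver (G.map (mo o) ≫ i) o.hom := fun o => by
    simpa [mo] using (liesOver_overCat G (mo o)).comp hi
  have hH : ∀ o : Over T, LiesOver (H.map (mo o) ≫ j) o.hom := fun o => by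
    simpa [mo] using (liesOver_overCat H (mo o)).comp hj
  have loc : ∀ o : (Stk.sieveCat R).obj, ∃ (β : G.obj o.obj ⟶ H.obj o.obj) (d : ι) (f : o.obj.left ⟶ W d)
      (k : G.obj o.obj ⟶ z d), LiesOver β (𝟙 o.obj.left) ∧ LiesOver k f ∧ k ≫ ψ d = G.map (mo o.obj) ≫ i ∧
        β ≫ H.map (mo o.obj) ≫ j = k ≫ χ d := fun o => by
    obtain ⟨d, f, hf⟩ := hR _ o.property
    obtain ⟨k, hk, hkc⟩ := exists_factor hp (hψ d) (hG o.obj) hf
    obtain ⟨β, hβ, hβc⟩ := exists_factor hp (hH o.obj) (hk.comp (hχ d)) (by rw [hf, Category.id_comp])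
    exact ⟨β, d, f, k, hβ, hk, hkc, hβc⟩
  choose β d f k hβ hk hkc hβc using loc
  let Φ : (Stk.resSieve R 𝒳).obj G ⟶ (Stk.resSieve R 𝒳).obj H :=
    ⟨{ app := β
       naturality := fun o o' n => by
        show G.map n.hom ≫ β o' = β o ≫ H.map n.hom
        have hGn : G.map n.hom ≫ G.map (mo o'.obj) = G.map (mo o.obj) := by
          rw [← Functor.map_comp]; congr 1; exact Over.OverMorphism.ext (Over.w n.hom)
        have hHn : H.map n.hom ≫ H.map (mo o'.obj) = H.map (mo o.obj) := by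
          rw [← Functor.map_comp]; congr 1; exact Over.OverMorphism.ext (Over.w n.hom)
        refine factor_unique hp (φ := H.map (mo o'.obj) ≫ j) (h := n.hom.left)
          (by simpa using (liesOver_overCat G n.hom).comp (hβ o'))
          (by simpa using (hβ o).comp (liesOver_overCat H n.hom)) ?_
        rw [Category.assoc, Category.assoc, hβc, reassoc_of% hHn, hβc, ← Category.assoc]
        refine comp (d o') (d o) _ _ ((liesOver_overCat G n.hom).comp (hk o')) (hk o) ?_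
        rw [Category.assoc, hkc, hkc, ← Category.assoc, hGn] }, fun o => by
      obtain ⟨h₁, h₂, e⟩ := hβ o
      exact IsHomLift.of_fac' 𝒳.p _ _ (G.w_obj o.obj) (H.w_obj o.obj) (e.trans (by simp))⟩
  haveI := h.1
  obtain ⟨α, hα⟩ := (Stk.resSieve R 𝒳).map_surjective Φ
  let t : Over T := Over.mk (𝟙 T)
  refine ⟨inv i ≫ α.toNatTrans.app t ≫ j, by simpa [t] using (liesOver_inv hp hi).comp ((liesOver_app α t).comp hj),
    fun d₀ => ?_⟩
  let o : (Stk.sieveCat R).obj := ⟨Over.mk (w d₀), hmem d₀⟩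
  obtain ⟨v, hv, hvc⟩ := exists_factor hp (hψ d₀) (hG o.obj) (show 𝟙 (W d₀) ≫ w d₀ = w d₀ from Category.id_comp _)
  haveI := isIso_of_vertical hp hv
  have hβo : β o = α.toNatTrans.app o.obj := (congrArg (fun η => η.toNatTrans.app o) hα).symm
  rw [← cancel_epi v, ← Category.assoc, hvc, Category.assoc, IsIso.hom_inv_id_assoc, ← Category.assoc,
    α.toNatTrans.naturality (mo o.obj), Category.assoc, ← hβo, hβc]
  exact comp (d o) d₀ _ _ (hk o) hv ((hkc o).trans hvc.symm)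

end glue

end Groth.Agent.StkSmall

end
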